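import Groth.Agent.SolvSpecial.Main
import Groth.Agent.Chev.NonAffine
import Groth.Agent.Chev.BorelKernel
import Groth.Agent.Chev.BorelTheory
import Groth.Agent.MonoFactor.Points
import Groth.Agent.SubGen.AlgClosed

/-!
# `G → G / G_aff` is Zariski locally trivial
-/

set_option autoImplicit false
set_option linter.style.haveILetI false
set_option backward.isDefEq.respectTransparency false
set_option backward.isDefEq.respectTransparency.types false
set_option maxHeartbeats 1000000
set_option synthInstance.maxHeartbeats 400000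

universe u

open CategoryTheory CategoryTheory.Limits MonoidalCategory CartesianMonoidalCategory GrpObj AlgebraicGeometry
open scoped CategoryTheory.MonObj
open Groth.Agent.SubGen (rpt exists_rpt map_rpt)

noncomputable section

namespace Groth.Agent.SolvSpecial

variable {k : Type u} [Field k] [IsAlgClosed k]

/-- A surjective homomorphism onto a proper group with smooth connected affine kernel has local sections. -/
theorem exists_local_section (G N A : Over (Spec (CommRingCat.of k))) [GrpObj G] [GrpObj N] [GrpObj A]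
    [Smooth G.hom] [QuasiCompact G.hom] [ConnectedSpace G.left]
    (i : N ⟶ G) [IsMonHom i] [IsClosedImmersion i.left] [Smooth N.hom] [ConnectedSpace N.left] [IsAffine N.left]
    [IsProper A.hom] [Smooth A.hom] (α : G ⟶ A) [IsMonHom α] [Surjective α.left]
    (hker : AlgGrp.IsKernel i α) (y : ↥A.left) :
    ∃ U : A.left.Opens, y ∈ U ∧ ∃ s : ↑U ⟶ G.left, s ≫ α.left = U.ι := by
  obtain ⟨L, D, Q, hL, hD, hQ, l, d, q, R⟩ := Chev.Borel.exists_affReduction G
  haveI := R.l_hom; haveI := R.l_affine; haveI := R.l_smooth; haveI := R.l_connected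
  haveI := R.d_hom; haveI := R.d_smooth; haveI := R.d_qc; haveI := R.d_closed
  haveI : IsSeparated A.hom := inferInstance
  have hαl : l ≫ α = 1 := Chev.eq_one_of_affine_of_proper' (l ≫ α)
  let β : D ⟶ A := d ≫ α
  haveI : IsMonHom β := inferInstanceAs (IsMonHom (d ≫ α))
  haveI : LocallyOfFiniteType A.hom := inferInstance
  haveI : QuasiCompact β.left := by
    haveI : QuasiCompact (β.left ≫ A.hom) := by rw [Over.w]; infer_instance
    exact QuasiCompact.of_comp β.left A.hom
  haveI : LocallyOfFinitePresentation β.left := by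
    haveI : IsLocallyNoetherian A.left := LocallyOfFiniteType.isLocallyNoetherian A.hom
    haveI : LocallyOfFiniteType (β.left ≫ A.hom) := by rw [Over.w]; infer_instance
    haveI : LocallyOfFiniteType β.left := locallyOfFiniteType_of_comp β.left A.hom
    infer_instance
  haveI : JacobsonSpace A.left := LocallyOfFiniteType.jacobsonSpace A.hom
  haveI : CompactSpace A.left := QuasiCompact.compactSpace_of_compactSpace A.hom
  haveI : A.left.IsSeparated := ⟨by rw [← terminal.comp_from A.hom]; infer_instance⟩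
  haveI : Surjective β.left := MonoFactor.surjective_of_closedPoints β.left fun x hx => by
    obtain ⟨a, ha⟩ := exists_rpt hx
    obtain ⟨g, hg⟩ := Chev.Borel.exists_rp_preimage α a
    obtain ⟨u, z, huz⟩ := R.decomp g
    refine ⟨rpt z, ?_⟩
    rw [map_rpt, show z ≫ β = a by
      rw [← hg, ← huz, MonObj.mul_comp, Category.assoc, hαl, MonObj.comp_one, _root_.one_mul, Category.assoc]]
    exact ha
  haveI : IsReduced A.left := SmoothRed.isReduced_of_smooth_scheme A.hom
  haveI : Flat β.left := (Groth.Agent.S5355.result k D A β β.left.surjective.denseRange).2 inferInstance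
  -- the kernel and a Borel subgroup of `N`
  obtain ⟨K, _, iK, hiK, hiKc, -, hkerK⟩ := MTKernel.exists_kernel β
  haveI := hiK; haveI := hiKc
  obtain ⟨B, _, iB, hB, -⟩ := Chev.Borel.exists_borel_proper (G := N)
  obtain ⟨hBm, hBc, hBs, hBconn, hBsol, -⟩ := id hB
  haveI := hBm; haveI := hBc; haveI := hBs; haveI := hBconn
  haveI : IsAffine B.left := isAffine_of_isAffineHom iB.left
  haveI : Mono i := GrpField.SchImg.mono_of_isClosedImmersion i
  haveI : Mono iB := GrpField.SchImg.mono_of_isClosedImmersion iB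
  haveI : IsAffineHom N.hom := isAffineHom_of_isAffine _
  haveI : QuasiCompact N.hom := inferInstance
  let κN : K ⟶ N := hker.lift (iK ≫ d) (toUnit _) (by
    rw [Category.assoc]; exact hkerK.w)
  have hκN : κN ≫ i = iK ≫ d := hker.lift_fst _ _ _
  haveI : IsMonHom (κN ≫ i) := by rw [hκN]; infer_instance
  haveI : IsMonHom κN := MTSplit.isMonHom_of_comp_mono κN i (iK ≫ d) hκN
  obtain ⟨κ, hκ⟩ := Chev.Borel.central_factor_borel iB hB κN fun X' x g => by
    rw [← cancel_mono i, MonObj.mul_comp, MonObj.mul_comp, Category.assoc, hκN, ← Category.assoc]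
    exact R.central X' (x ≫ iK) (g ≫ i)
  haveI : IsMonHom κ := MTSplit.isMonHom_of_comp_mono κ iB κN hκ
  -- the torsor under `B`
  let a : AlgGrp.Action K D := (SpecialExt.regular D).restrict iK
  have ha : ∀ {T : Over (Spec (CommRingCat.of k))} (g : T ⟶ K) (x : T ⟶ D),
      lift g x ≫ a.act = (g ≫ iK) * x := fun g x => by
    rw [AlgGrp.Action.lift_restrict_act, Hom.mul_def]; rfl
  have hKβ : ∀ {T : Over (Spec (CommRingCat.of k))} (g : T ⟶ K), (g ≫ iK) ≫ β = 1 := fun g => by
    rw [Category.assoc, hkerK.w, ← Category.assoc, toUnit_unique (g ≫ toUnit K) (toUnit _), Hom.one_def]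
  haveI : Mono iK := GrpField.SchImg.mono_of_isClosedImmersion iK
  have hsqO : IsPullback a.act (snd K D) β β := by
    refine ⟨⟨?_⟩, ⟨PullbackCone.IsLimit.mk _
      (fun s => lift (hkerK.lift (s.fst * s.snd⁻¹) (toUnit _) (by
        rw [MonObj.mul_comp, GrpObj.inv_comp, s.condition, mul_inv_cancel, Hom.one_def])) s.snd)
      (fun s => ?_) (fun s => lift_snd _ _) (fun s m h₁ h₂ => ?_)⟩⟩
    · rw [← Category.id_comp a.act, ← lift_fst_snd, ha, MonObj.mul_comp, hKβ, _root_.one_mul]
    · rw [ha, hkerK.lift_fst, inv_mul_cancel_right]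
    · rw [← lift_comp_fst_snd m, h₂]
      congr 1
      rw [← lift_comp_fst_snd m, ha, h₂] at h₁
      rw [← cancel_mono iK, hkerK.lift_fst, ← h₁, mul_inv_cancel_right]
  haveI : IsAffineHom B.hom := isAffineHom_of_isAffine _
  obtain ⟨W, π, ψ, heq, hpb⟩ := Assoc.exists_bundle a ((SpecialExt.regular B).restrict κ) β
    (hsqO.map (Over.forget _))
  have hpb' : IsPullback (fst D B) π β ψ :=
    IsPullback.of_map (Over.forget _) (Over.OverMorphism.ext hpb.w) hpb
  have hcart' := Assoc.bundle_isPullback a ((SpecialExt.regular B).restrict κ) β π ψ hsqO heq hpb'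
  haveI : Flat π.left := MorphismProperty.of_isPullback hpb (inferInstance : Flat β.left)
  haveI : Surjective π.left := MorphismProperty.of_isPullback hpb (inferInstance : Surjective β.left)
  haveI : QuasiCompact π.left := MorphismProperty.of_isPullback hpb (inferInstance : QuasiCompact β.left)
  obtain ⟨bW, hbW⟩ := SpecialExt.exists_action a κ β π ψ hcart' hpb'
  have hsecψ : SpecialExt.sec π ≫ ψ = β := SpecialExt.sec_comp β π ψ hpb'
  -- the map to `G`
  let F : D ⊗ B ⟶ G := (fst D B ≫ d) * (snd D B ≫ iB ≫ i)⁻¹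
  have hF : ∀ {T : Over (Spec (CommRingCat.of k))} (x : T ⟶ D) (b : T ⟶ B),
      lift x b ≫ F = (x ≫ d) * (b ≫ iB ≫ i)⁻¹ := fun x b => by
    simp only [F, MonObj.comp_mul, GrpObj.comp_inv, lift_fst_assoc, lift_snd_assoc]
  obtain ⟨Φ, hΦ⟩ := SpecialExt.exists_desc π F fun T z z' e => by
    rw [← lift_comp_fst_snd z, ← lift_comp_fst_snd z'] at e ⊢
    obtain ⟨g, hg, hgq, -⟩ := SpecialExt.rel a κ π hcart' e
    have h2 : (g ≫ κ) ≫ iB ≫ i = g ≫ iK ≫ d := by rw [Category.assoc, reassoc_of% hκ, hκN]
    rw [hF, hF, ← hg, ← hgq, ha, MonObj.mul_comp, MonObj.mul_comp, h2, Category.assoc, _root_.mul_inv_rev]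
    have hc := R.central T (g ≫ iK) ((z' ≫ fst D B) ≫ d * ((z' ≫ snd D B) ≫ iB ≫ i)⁻¹)
    rw [Category.assoc] at hc
    rw [← _root_.mul_assoc, _root_.mul_assoc (g ≫ iK ≫ d), hc, mul_inv_cancel_right]
  have hΦα : Φ ≫ α = ψ := SpecialExt.cancel_cover π (by
    rw [reassoc_of% hΦ, ← hpb'.w, MonObj.mul_comp, GrpObj.inv_comp, Category.assoc, Category.assoc, Category.assoc,
      show i ≫ α = toUnit N ≫ η[A] from hker.w, ← Category.assoc iB, ← Category.assoc (snd D B),
      toUnit_unique (snd D B ≫ iB ≫ toUnit N) (toUnit _), ← Hom.one_def, inv_one, _root_.mul_one])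
  -- local sections
  have hloc : NonAbH1.IsLocallyTrivialFor Scheme.fpqcPrecoverage (Over.mk ψ.left : Over A.left) :=
    ⟨Presieve.singleton β.left, β.left.singleton_mem_fpqcPrecoverage, by
      rintro _ _ ⟨⟩
      exact ⟨(SpecialExt.sec π).left, congr(($hsecψ).left)⟩⟩
  obtain ⟨R', hR', hs⟩ := isSpecial_solvable B hBsol W A bW ψ hbW hloc
  obtain ⟨D', j, hj, ⟨z, rfl⟩⟩ := (Presieve.mem_comap_jointlySurjectivePrecoverage_iff Scheme.forget).1 hR'.1 y
  obtain ⟨s, hs'⟩ := hs j hj
  haveI : IsOpenImmersion j := hR'.2 hj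
  refine ⟨j.opensRange, ⟨z, rfl⟩, j.isoOpensRange.inv ≫ s ≫ Φ.left, ?_⟩
  simp only [Category.assoc]
  rw [← Over.comp_left, hΦα]
  change j.isoOpensRange.inv ≫ s ≫ (Over.mk ψ.left : Over A.left).hom = _
  rw [show s ≫ (Over.mk ψ.left : Over A.left).hom = j from hs']
  exact j.isoOpensRange_inv_comp

end Groth.Agent.SolvSpecial
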