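import Groth.Agent.SolvSpecial.Base
import Groth.Agent.S5355
import Groth.Agent.SmoothRed.Scheme
import Groth.Agent.MTKernel.Basic
import Groth.Agent.UnipSplit.Coord
import Groth.Agent.Chev.SolvTorus
import Groth.Agent.Chev.SolvHopf
import Groth.Agent.Chev.BorelTools
import Groth.Agent.FppfSource.Scheme
import Groth.Agent.Chev.CharQuot
import Groth.Agent.S15607

/-!
# Connected solvable groups over an algebraically closed field are special
-/

set_option autoImplicit false
set_option linter.style.haveILetI false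
set_option backward.isDefEq.respectTransparency false
set_option backward.isDefEq.respectTransparency.types false
set_option maxHeartbeats 1000000
set_option synthInstance.maxHeartbeats 400000

universe u

open CategoryTheory CategoryTheory.Limits MonoidalCategory CartesianMonoidalCategory GrpObj AlgebraicGeometry
open scoped CategoryTheory.MonObj

noncomputable section

namespace Groth.Agent.SolvSpecial

variable {k : Type u} [Field k]

/-- An extension of special groups is special. -/
theorem isSpecial_extension {G N Q : Over (Spec (CommRingCat.of k))} [GrpObj G] [GrpObj N] [GrpObj Q]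
    [IsAffine G.left] [LocallyOfFiniteType G.hom] (iN : N ⟶ G) [IsMonHom iN]
    (q : G ⟶ Q) [IsMonHom q] [Surjective q.left] [IsAffine Q.left] [Smooth Q.hom]
    (hker : AlgGrp.IsKernel iN q) (hN : IsSpecial N) (hQ : IsSpecial Q) : IsSpecial G := by
  intro X Y a φ hcart hloc
  haveI : IsAffineHom q.left := isAffineHom_of_isAffine _
  haveI : IsAffineHom Q.hom := isAffineHom_of_isAffine _
  haveI : AlgebraicGeometry.IsReduced Q.left := SmoothRed.isReduced_of_smooth_scheme Q.hom
  haveI : Flat q.left := (Groth.Agent.S5355.result k G Q q q.left.surjective.denseRange).2 inferInstance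
  obtain ⟨hφa, hφf, hφs⟩ := TorsorMap.props a φ hcart hloc
  have hsq := QuotShLib.left_of_isKernelPair hcart
  obtain ⟨W, π, ψ, heq, hpb⟩ := Assoc.exists_bundle a ((SpecialExt.regular Q).restrict q) φ hsq
  have hw : fst X Q ≫ φ = π ≫ ψ := Over.OverMorphism.ext hpb.w
  have hpb' : IsPullback (fst X Q) π φ ψ := IsPullback.of_map (Over.forget _) hw hpb
  have hcart' := Assoc.bundle_isPullback a ((SpecialExt.regular Q).restrict q) φ π ψ hcart heq hpb'
  haveI : IsAffineHom π.left := MorphismProperty.of_isPullback hpb hφa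
  haveI : Flat π.left := MorphismProperty.of_isPullback hpb hφf
  haveI : Surjective π.left := MorphismProperty.of_isPullback hpb hφs
  have hsec : SpecialExt.sec π ≫ ψ = φ := SpecialExt.sec_comp φ π ψ hpb'
  obtain ⟨b, hb⟩ := SpecialExt.exists_action a q φ π ψ hcart' hpb'
  have hψ : NonAbH1.IsLocallyTrivialFor Scheme.fpqcPrecoverage (Over.mk ψ.left : Over Y.left) := by
    obtain ⟨R, hR, hs⟩ := hloc
    refine ⟨R, hR, fun S' f hf => ?_⟩
    obtain ⟨σ, hσ⟩ := hs f hf
    exact ⟨σ ≫ (SpecialExt.sec π).left, by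
      show (σ ≫ (SpecialExt.sec π).left) ≫ ψ.left = f
      rw [Category.assoc, ← Over.comp_left, hsec]
      exact hσ⟩
  have h1 := hQ W Y b ψ hb hψ
  have h2 := hN X W (a.restrict iN) (SpecialExt.sec π) (SpecialExt.isPullback_sec a q π hcart' iN hker)
    (SpecialExt.isLocallyTrivial_sec a q π hcart')
  have h3 := SpecialExt.locallyTrivial_comp (SpecialExt.sec π).left ψ.left h2 h1
  rw [← Over.comp_left, hsec] at h3
  exact h3

/-- The trivial group is special. -/
theorem isSpecial_trivial {G : Over (Spec (CommRingCat.of k))} [GrpObj G] [IsIso G.hom] : IsSpecial G := by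
  intro X Y a φ hcart hloc
  haveI : IsAffine G.left := .of_isIso G.hom
  obtain ⟨h1, h2, h3⟩ := TorsorMap.props a φ hcart hloc
  haveI := h1; haveI := h2; haveI := h3
  have hg : ∀ {T : Over (Spec (CommRingCat.of k))} (g g' : T ⟶ G), g = g' := fun g g' =>
    Over.OverMorphism.ext ((cancel_mono G.hom).1 ((Over.w g).trans (Over.w g').symm))
  haveI : IsIso φ := by
    haveI : Mono φ := ⟨fun {T} x y e => by
      obtain ⟨l, h1, h2⟩ := hcart.exists_lift x y e
      rw [← h1, ← h2, ← lift_comp_fst_snd l, hg (l ≫ fst G X) 1, GrpAct.one_smul', lift_snd]⟩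
    obtain ⟨r, hr⟩ := SpecialExt.exists_desc φ (𝟙 X) fun T z z' e => by rw [(cancel_mono φ).1 e]
    exact ⟨r, hr, SpecialExt.cancel_cover φ (by rw [reassoc_of% hr, Category.comp_id])⟩
  refine ⟨Presieve.singleton (𝟙 Y.left), Precoverage.mem_coverings_of_isIso _, ?_⟩
  rintro _ _ ⟨⟩
  refine ⟨(inv φ).left, ?_⟩
  show (inv φ).left ≫ φ.left = 𝟙 _
  rw [← Over.comp_left, IsIso.inv_hom_id]; rfl

/-- Specialness is invariant under isomorphism of groups. -/
theorem isSpecial_of_iso {G G' : Over (Spec (CommRingCat.of k))} [GrpObj G] [GrpObj G'] (e : G ≅ G')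
    [IsMonHom e.hom] (h : IsSpecial G) : IsSpecial G' := by
  intro X Y b ψ hcart hloc
  refine h X Y (b.restrict e.hom) ψ ?_ hloc
  exact hcart.of_iso (whiskerRightIso e X).symm (Iso.refl _) (Iso.refl _) (Iso.refl _)
    (by
      change b.act ≫ 𝟙 X = (e.inv ▷ X) ≫ (e.hom ▷ X) ≫ b.act
      rw [Category.comp_id, inv_hom_whiskerRight_assoc])
    (by simp) (by simp) (by simp)

/-- The functor of points of a diagonalisable group, functorially in the characters. -/
theorem exists_DS_map {M M' : Type} [AddCommGroup M] [AddCommGroup M'] (u : Multiplicative M' →* Multiplicative M) :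
    ∃ q : Red.DS (Spec (CommRingCat.of k)) M ⟶ Red.DS (Spec (CommRingCat.of k)) M',
      IsMonHom q ∧ ∀ (T : Over (Spec (CommRingCat.of k))) (g : T ⟶ Red.DS (Spec (CommRingCat.of k)) M) (m : Multiplicative M'),
        HomDiag.ch (g ≫ q) m = HomDiag.ch g (u m) := by
  obtain ⟨q, hq⟩ := HomDiag.exists_ch ((HomDiag.ch (𝟙 (Red.DS (Spec (CommRingCat.of k)) M))).comp u)
  have hev : ∀ (T : Over (Spec (CommRingCat.of k))) (g : T ⟶ Red.DS (Spec (CommRingCat.of k)) M) (m : Multiplicative M'),
      HomDiag.ch (g ≫ q) m = HomDiag.ch g (u m) := fun T g m => by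
    rw [HomDiag.ch_comp, hq, MonoidHom.comp_apply, ← HomDiag.ch_comp, Category.comp_id]
  exact ⟨q, WittGrp.isMonHom_of_comp_mul q (HomDiag.ch_ext fun m => by rw [hev, HomDiag.ch_one, HomDiag.ch_one])
    (fun T x y => HomDiag.ch_ext fun m => by
      rw [hev, HomDiag.ch_mul, HomDiag.ch_mul, hev, hev]), hev⟩

/-- Split tori are special. -/
theorem isSpecial_DS : ∀ r : ℕ, IsSpecial (Red.DS (Spec (CommRingCat.of k)) (Fin r → ℤ)) := by
  intro r
  induction r with
  | zero =>
    haveI : Subsingleton (Multiplicative (Fin 0 → ℤ)) := inferInstanceAs (Subsingleton (Fin 0 → ℤ))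
    haveI : IsIso (Red.DS (Spec (CommRingCat.of k)) (Fin 0 → ℤ)).hom := by
      refine ⟨η[Red.DS (Spec (CommRingCat.of k)) (Fin 0 → ℤ)].left, ?_, Over.w η[Red.DS (Spec (CommRingCat.of k)) (Fin 0 → ℤ)]⟩
      have h : toUnit _ ≫ η[Red.DS (Spec (CommRingCat.of k)) (Fin 0 → ℤ)] = 𝟙 _ := HomDiag.ch_ext fun m => by
        rw [← Hom.one_def, Subsingleton.elim m 1, map_one, map_one]
      exact congr(($h).left)
    exact isSpecial_trivial
  | succ r IH =>
    let u₁ : Multiplicative (Fin r → ℤ) →* Multiplicative (Fin (r + 1) → ℤ) :=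
      AddMonoidHom.toMultiplicative
        { toFun := fun v => Fin.cons 0 v
          map_zero' := by ext i; refine Fin.cases ?_ ?_ i <;> simp
          map_add' := fun v w => by ext i; refine Fin.cases ?_ ?_ i <;> simp }
    let u₂ : Multiplicative ℤ →* Multiplicative (Fin (r + 1) → ℤ) :=
      AddMonoidHom.toMultiplicative
        { toFun := fun z => Pi.single 0 z
          map_zero' := Pi.single_zero 0
          map_add' := fun v w => Pi.single_add (f := fun _ : Fin (r + 1) => ℤ) 0 v w }
    let p₁ : Multiplicative (Fin (r + 1) → ℤ) →* Multiplicative (Fin r → ℤ) :=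
      AddMonoidHom.toMultiplicative
        { toFun := Fin.tail
          map_zero' := rfl
          map_add' := fun _ _ => rfl }
    let p₂ : Multiplicative (Fin (r + 1) → ℤ) →* Multiplicative ℤ :=
      AddMonoidHom.toMultiplicative (Pi.evalAddMonoidHom (fun _ : Fin (r + 1) => ℤ) 0)
    obtain ⟨i, hi, hiev⟩ := exists_DS_map (k := k) p₁
    obtain ⟨q, hq, hqev⟩ := exists_DS_map (k := k) u₂
    obtain ⟨sec, -, hsev⟩ := exists_DS_map (k := k) p₂
    obtain ⟨ret, -, hrev⟩ := exists_DS_map (k := k) u₁
    haveI := hi; haveI := hq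
    haveI := MTBridge.isAffineHom_DS (Spec (CommRingCat.of k)) (Fin (r + 1) → ℤ)
    haveI := MTBridge.isAffineHom_DS (Spec (CommRingCat.of k)) ℤ
    haveI : IsAffine (Red.DS (Spec (CommRingCat.of k)) (Fin (r + 1) → ℤ)).left :=
      isAffine_of_isAffineHom (Red.DS (Spec (CommRingCat.of k)) (Fin (r + 1) → ℤ)).hom
    haveI : IsAffine (Red.Gm (Spec (CommRingCat.of k))).left :=
      isAffine_of_isAffineHom (Red.Gm (Spec (CommRingCat.of k))).hom
    haveI : Smooth (Red.Gm (Spec (CommRingCat.of k))).hom :=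
      Chev.smooth_of_isTorus Groth.Agent.S15607.isTorus_Gm
    haveI : LocallyOfFiniteType (Red.DS (Spec (CommRingCat.of k)) (Fin (r + 1) → ℤ)).hom :=
      Chev.locallyOfFiniteType_of_isTorus (Chev.CharQuot.isTorus_DS (r + 1))
    have hsq : sec ≫ q = 𝟙 (Red.Gm (Spec (CommRingCat.of k))) := HomDiag.ch_ext fun m => by
      rw [hqev, ← Category.id_comp sec, hsev]
      congr 1
    haveI : Surjective q.left := ⟨fun y => ⟨sec.left y, by
      rw [← Scheme.Hom.comp_apply, ← Over.comp_left, hsq]; rfl⟩⟩
    refine isSpecial_extension i q ?_ IH isSpecial_Gm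
    refine ⟨⟨HomDiag.ch_ext fun m => ?_⟩, ⟨PullbackCone.IsLimit.mk _ (fun s => s.fst ≫ ret)
      (fun s => HomDiag.ch_ext fun m => ?_) (fun s => toUnit_unique _ _) (fun s l h₁ _ => HomDiag.ch_ext fun m => ?_)⟩⟩
    · rw [hqev, ← Category.id_comp i, hiev, ← Hom.one_def, HomDiag.ch_one]
      rw [show p₁ (u₂ m) = 1 from Multiplicative.toAdd.injective (by ext j; simp [p₁, u₂, Fin.tail, Fin.succ_ne_zero]),
        map_one]
    · rw [hiev, hrev]
      have h : ∀ z : Multiplicative ℤ, HomDiag.ch s.fst (u₂ z) = 1 := fun z => by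
        rw [← hqev, s.condition, toUnit_unique s.snd (toUnit _), ← Hom.one_def, HomDiag.ch_one]
      conv_rhs => rw [show m = u₂ (p₂ m) * u₁ (p₁ m) from Multiplicative.toAdd.injective (by
        ext j; refine Fin.cases ?_ ?_ j <;> simp [p₁, p₂, u₁, u₂, Fin.tail, Fin.succ_ne_zero])]
      rw [map_mul, h, _root_.one_mul]
    · rw [hrev, ← h₁, hiev]
      congr 1

variable [IsAlgClosed k]

/-- Tori over an algebraically closed field are special. -/
theorem isSpecial_torus {T : Over (Spec (CommRingCat.of k))} [GrpObj T] (hT : Red.IsTorus T) : IsSpecial T := by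
  obtain ⟨r, ⟨i⟩⟩ := Chev.Borel.split_of_isTorus hT
  let e : Red.DS (Spec (CommRingCat.of k)) (Fin r → ℤ) ≅ T := (Grp.forget _).mapIso i.symm
  haveI : IsMonHom e.hom := inferInstanceAs (IsMonHom i.inv.hom.hom)
  exact isSpecial_of_iso e (isSpecial_DS r)

/-- Unipotent groups are special. -/
theorem isSpecial_noSubtorus : ∀ (d : ℕ) (U : Over (Spec (CommRingCat.of k))) [GrpObj U] [IsAffine U.left]
    [Smooth U.hom] [ConnectedSpace U.left], Red.HasNoSubtorus k U → topologicalKrullDim U.left < (d : ℕ) →
      IsSpecial U := by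
  intro d
  induction d with
  | zero =>
    intro U _ _ _ _ _ h
    exfalso
    obtain ⟨d, hd⟩ := Chev.exists_natDim' U
    rw [hd] at h
    exact absurd (Nat.cast_lt (α := WithBot ℕ∞).1 h) (Nat.not_lt_zero d)
  | succ d IH =>
    intro U _ _ _ _ hU hdim
    haveI : IsAffineHom U.hom := isAffineHom_of_isAffine _
    by_cases hiso : IsIso U.hom
    · exact isSpecial_trivial
    obtain ⟨i, hi, hic, hcent⟩ := UnipSplit.exists_central_ga U hU hiso
    haveI := hi; haveI := hic
    haveI : Mono i := GrpField.SchImg.mono_of_isClosedImmersion i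
    obtain ⟨Q, _, q, hq, hQa, hQl, hqf, hqs, hk⟩ := Takeuchi.exists_affine_quotient U (Red.Ga _) i
      (fun T g n => ⟨n, by rw [← hcent T n g, mul_inv_cancel_right]⟩)
    haveI := hq; haveI := hQa; haveI := hQl; haveI := hqf; haveI := hqs
    haveI : IsAffineHom Q.hom := isAffineHom_of_isAffine _
    obtain ⟨-, hQsm, hQcn⟩ := Groth.Agent.S7983.result k U Q q
    haveI : Smooth Q.hom := hQsm inferInstance
    haveI : ConnectedSpace Q.left := hQcn inferInstance
    have hQ : Red.HasNoSubtorus k Q := UnipSplit.noSubtorus_quotient q (fun X z hz X' x g => by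
      obtain ⟨w, hw, -⟩ := hk.exists_lift z (toUnit _) hz
      rw [← hw, ← Category.assoc]
      exact hcent X' (x ≫ w) g) hU
    refine isSpecial_extension i q hk isSpecial_Ga (IH Q hQ ?_)
    obtain ⟨s, hs⟩ := Chev.GaSection.exists_section q i hk
    let rest : U ⟶ Red.Ga (Spec (CommRingCat.of k)) := hk.lift (𝟙 U * (q ≫ s)⁻¹) (toUnit _) (by
      rw [MonObj.mul_comp, GrpObj.inv_comp, Category.assoc, hs, Category.id_comp, Category.comp_id,
        mul_inv_cancel, Hom.one_def])
    have hrest : rest ≫ i = 𝟙 U * (q ≫ s)⁻¹ := hk.lift_fst _ _ _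
    let Φ : Red.Ga (Spec (CommRingCat.of k)) ⊗ Q ≅ U :=
      { hom := (fst _ Q ≫ i) * (snd (Red.Ga _) Q ≫ s)
        inv := lift rest q
        hom_inv_id := by
          have h2 : ((fst (Red.Ga (Spec (CommRingCat.of k))) Q ≫ i) * (snd _ Q ≫ s)) ≫ q = snd _ Q := by
            rw [MonObj.mul_comp, Category.assoc, Category.assoc, hs, Category.comp_id, hk.w,
              ← Category.assoc, toUnit_unique (fst _ Q ≫ toUnit _) (toUnit _), ← Hom.one_def, _root_.one_mul]
          refine CartesianMonoidalCategory.hom_ext _ _ ?_ ?_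
          · rw [Category.assoc, lift_fst, Category.id_comp, ← cancel_mono i, Category.assoc, hrest,
              MonObj.comp_mul, GrpObj.comp_inv, Category.comp_id, ← Category.assoc, h2, mul_inv_cancel_right]
          · rw [Category.assoc, lift_snd, h2, Category.id_comp]
        inv_hom_id := by
          rw [MonObj.comp_mul, lift_fst_assoc, lift_snd_assoc, hrest, inv_mul_cancel_right] }
    obtain ⟨B, _, eB, -⟩ := FinHopf.exists_hopf (R := CommRingCat.of k) Q
    let eQ : UnipSplit.spk k B ≅ Q := eB
    let eU : UnipSplit.spk k (Polynomial B) ≅ U :=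
      UnipSplit.spkIso ((Algebra.TensorProduct.comm k (MvPolynomial PUnit.{u + 1} k) B).trans
        ((Algebra.TensorProduct.congr AlgEquiv.refl (MvPolynomial.uniqueAlgEquiv k PUnit.{u + 1})).trans
          (polyEquivTensor k B).symm)) ≪≫ (UnipSplit.spkTensor _ _).symm ≪≫
            MonoidalCategory.tensorIso UnipSplit.gaSpk.symm eQ ≪≫ Φ
    haveI : IsIso eU.hom.left := inferInstanceAs (IsIso ((Over.forget _).map eU.hom))
    haveI : IsIso eQ.hom.left := inferInstanceAs (IsIso ((Over.forget _).map eQ.hom))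
    have hBnoeth : IsNoetherianRing B := by
      haveI : Algebra.FiniteType k B := by
        have h0 : LocallyOfFiniteType (eQ.hom.left ≫ Q.hom) := inferInstance
        rw [Over.w eQ.hom] at h0
        exact RingHom.finiteType_algebraMap.1 ((HasRingHomProperty.Spec_iff (P := @LocallyOfFiniteType)).1 h0)
      exact Algebra.FiniteType.isNoetherianRing k B
    have h1 : topologicalKrullDim U.left = ringKrullDim (Polynomial B) := by
      rw [← PrimeSpectrum.topologicalKrullDim_eq_ringKrullDim (Polynomial B)]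
      exact (IsHomeomorph.topologicalKrullDim_eq _ eU.hom.left.homeomorph.isHomeomorph).symm
    have h2 : topologicalKrullDim Q.left = ringKrullDim B := by
      rw [← PrimeSpectrum.topologicalKrullDim_eq_ringKrullDim B]
      exact (IsHomeomorph.topologicalKrullDim_eq _ eQ.hom.left.homeomorph.isHomeomorph).symm
    obtain ⟨e, he⟩ := Chev.exists_natDim' Q
    rw [h1, Polynomial.ringKrullDim_of_isNoetherianRing, ← h2, he] at hdim
    rw [he]
    have : e + 1 < d + 1 := Nat.cast_lt (α := WithBot ℕ∞).1 (by push_cast; exact hdim)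
    exact_mod_cast (show e < d by omega)

/-- **Connected solvable affine groups over an algebraically closed field are special.** -/
theorem isSpecial_solvable (G : Over (Spec (CommRingCat.of k))) [GrpObj G] [IsAffine G.left] [Smooth G.hom]
    [ConnectedSpace G.left] (hsolv : Red.IsSolvableGrp G) : IsSpecial G := by
  haveI := Chev.Borel.isSolvable_rp hsolv
  haveI : IsAffineHom G.hom := isAffineHom_of_isAffine _
  obtain ⟨T, _, iT, π, hiT, hπ, hiTc, hsec, hT, hconj, -⟩ := Chev.Borel.exists_section_torus G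
  haveI := hiT; haveI := hπ; haveI := hiTc
  haveI := Chev.smooth_of_isTorus hT
  haveI : IsAffine T.left := isAffine_of_isAffineHom iT.left
  haveI : IsAffineHom T.hom := isAffineHom_of_isAffine _
  haveI : Surjective π.left := ⟨fun y => ⟨iT.left y, by rw [← Scheme.Hom.comp_apply, ← Over.comp_left, hsec]; rfl⟩⟩
  obtain ⟨K, _, iK, hiK, hiKc, hKn, hker⟩ := MTKernel.exists_kernel π
  haveI := hiK; haveI := hiKc
  haveI : IsAffine K.left := isAffine_of_isAffineHom iK.left
  haveI : Mono iK := GrpField.SchImg.mono_of_isClosedImmersion iK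
  have hπiK : ∀ {W : Over (Spec (CommRingCat.of k))} (z : W ⟶ K), (z ≫ iK) ≫ π = 1 := fun z => by
    rw [Category.assoc, hker.w, ← Category.assoc, toUnit_unique (z ≫ toUnit K) (toUnit _), Hom.one_def]
  let r : G ⟶ K := hker.lift (𝟙 G * (π ≫ iT)⁻¹) (toUnit _) (by
    rw [MonObj.mul_comp, GrpObj.inv_comp, Category.assoc, hsec, Category.id_comp, Category.comp_id,
      mul_inv_cancel, Hom.one_def])
  have hr : r ≫ iK = 𝟙 G * (π ≫ iT)⁻¹ := hker.lift_fst _ _ _
  have hrK : iK ≫ r = 𝟙 K := by
    have h : iK ≫ π = 1 := by simpa only [Category.id_comp] using hπiK (𝟙 K)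
    rw [← cancel_mono iK, Category.assoc, hr, MonObj.comp_mul, GrpObj.comp_inv, ← Category.assoc, h,
      MonObj.one_comp, inv_one, _root_.mul_one, Category.comp_id, Category.id_comp]
  haveI : Surjective r.left := ⟨fun y => ⟨iK.left y, by rw [← Scheme.Hom.comp_apply, ← Over.comp_left, hrK]; rfl⟩⟩
  haveI : ConnectedSpace K.left := r.left.surjective.connectedSpace r.left.continuous
  let Ψ : G ≅ K ⊗ T :=
    ⟨lift r π, (fst K T ≫ iK) * (snd K T ≫ iT), by
      rw [MonObj.comp_mul, lift_fst_assoc, lift_snd_assoc, hr, inv_mul_cancel_right], by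
      have h2 : ((fst K T ≫ iK) * (snd K T ≫ iT)) ≫ π = snd K T := by
        rw [MonObj.mul_comp, hπiK, _root_.one_mul, Category.assoc, hsec, Category.comp_id]
      refine CartesianMonoidalCategory.hom_ext _ _ ?_ ?_
      · rw [Category.assoc, lift_fst, Category.id_comp, ← cancel_mono iK, Category.assoc, hr,
          MonObj.comp_mul, GrpObj.comp_inv, Category.comp_id, ← Category.assoc, h2, mul_inv_cancel_right]
      · rw [Category.assoc, lift_snd, h2, Category.id_comp]⟩
  haveI : IsIso Ψ.hom.left := Iso.isIso_hom ((Over.forget _).mapIso Ψ)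
  have hrl : r.left = Ψ.hom.left ≫ (fst K T).left := by
    rw [← Over.comp_left]
    exact congrArg (fun w => w.left) (lift_fst r π).symm
  haveI : Flat (fst K T).left := by change Flat (pullback.fst K.hom T.hom); infer_instance
  haveI : LocallyOfFiniteType K.hom := by rw [← Over.w iK]; infer_instance
  haveI : LocallyOfFinitePresentation (fst K T).left := by
    change LocallyOfFinitePresentation (pullback.fst K.hom T.hom); infer_instance
  haveI : Flat r.left := by rw [hrl]; infer_instance
  haveI : LocallyOfFinitePresentation r.left := by rw [hrl]; infer_instance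
  haveI : Smooth (r.left ≫ K.hom) := by rw [Over.w]; infer_instance
  haveI : Smooth K.hom := FppfSource.smooth r.left K.hom
  obtain ⟨d, hd⟩ := Chev.exists_natDim' K
  refine isSpecial_extension iK π hker (isSpecial_noSubtorus (d + 1) K ?_ ?_) (isSpecial_torus hT)
  · intro T' _ j _ _ hT'
    haveI : Mono (j ≫ iK) := mono_comp j iK
    obtain ⟨g, f, hfm, hf⟩ := hconj T' (j ≫ iK) hT'
    have h := congrArg (· ≫ π) hf
    simp only [Category.assoc, hsec, Category.comp_id, AGF.conjBy, MonObj.mul_comp, GrpObj.inv_comp,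
      hπiK, _root_.mul_one, mul_inv_cancel, inv_mul_cancel] at h
    have h1 : AGF.conjBy g (j ≫ iK) = 1 := by rw [← hf, h, MonObj.one_comp]
    have h2 : j ≫ iK = 1 := by
      simp only [AGF.conjBy] at h1
      rwa [mul_inv_eq_one, mul_eq_left] at h1
    have h3 : j = 1 := by rw [← cancel_mono iK, h2, MonObj.one_comp]
    refine ⟨η[T'].left, ?_, Over.w η[T']⟩
    have h4 : toUnit T' ≫ η[T'] = 𝟙 T' := by
      rw [← Hom.one_def, ← cancel_mono j, MonObj.one_comp, Category.id_comp, h3]
    exact congr(($h4).left)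
  · rw [hd]
    exact_mod_cast Nat.lt_succ_self d

end Groth.Agent.SolvSpecial
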