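import Groth.Agent.GrpAct.TorsorMap
import Groth.Agent.GrpAct.Basic
import Groth.Agent.BGaNotS.GaPts
import Groth.Agent.GaTorsorZar.Main
import Groth.Agent.GmTorsorZar.Main
import Groth.Agent.SpecialExt.Basic
import Groth.Agent.Torsor.Points

/-!
# The additive and the multiplicative group are special
-/

set_option autoImplicit false
set_option linter.style.haveILetI false
set_option backward.isDefEq.respectTransparency false
set_option backward.isDefEq.respectTransparency.types false

universe u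

open CategoryTheory CategoryTheory.Limits MonoidalCategory CartesianMonoidalCategory AlgebraicGeometry
open scoped CategoryTheory.MonObj

noncomputable section

namespace Groth.Agent.SolvSpecial

/-- A group all of whose torsors are locally trivial for the Zariski topology. -/
def IsSpecial {S : Scheme.{u}} (G : Over S) [GrpObj G] : Prop :=
  ∀ (X Y : Over S) (b : AlgGrp.Action G X) (ψ : X ⟶ Y),
    IsPullback b.act (snd G X) ψ ψ →
    NonAbH1.IsLocallyTrivialFor Scheme.fpqcPrecoverage (Over.mk ψ.left : Over Y.left) →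
    NonAbH1.IsLocallyTrivialFor Scheme.zariskiPrecoverage (Over.mk ψ.left : Over Y.left)

variable {S : Scheme.{u}}

/-- Forgetting down to the base. -/
abbrev dn {Y : Over S} (T : Over Y.left) : Over S := (Over.map Y.hom).obj T

/-- A torsor gives an action relative to the quotient. -/
theorem exists_relTorsor {G X Y : Over S} [GrpObj G] (G' : Over Y.left) [GrpObj G']
    (a : AlgGrp.Action G X) (φ : X ⟶ Y) (hcart : IsPullback a.act (snd G X) φ φ)
    (e : ∀ T : Over Y.left, (T ⟶ G') ≃ (dn T ⟶ G))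
    (he : ∀ {T T' : Over Y.left} (t : T' ⟶ T) (g : T ⟶ G'), e T' (t ≫ g) = (Over.map Y.hom).map t ≫ e T g)
    (hm : ∀ (T : Over Y.left) (g g' : T ⟶ G'), e T (g * g') = e T g * e T g') :
    ∃ a' : AlgGrp.Action G' (Over.mk φ.left : Over Y.left), NonAbH1.IsPseudoTorsorSch a' := by
  let X' : Over Y.left := Over.mk φ.left
  let xd : ∀ {T : Over Y.left}, (T ⟶ X') → (dn T ⟶ X) := fun {T} x => Over.homMk x.left (by
    show x.left ≫ X.hom = T.hom ≫ Y.hom
    rw [← Over.w φ, ← Category.assoc]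
    exact congrArg (· ≫ Y.hom) (Over.w x))
  have hxφ : ∀ {T : Over Y.left} (x : T ⟶ X'), (xd x ≫ φ).left = T.hom := fun x => Over.w x
  let up : ∀ {T : Over Y.left} (z : dn T ⟶ X), (z ≫ φ).left = T.hom → (T ⟶ X') := fun z h => Over.homMk z.left h
  have hinv : ∀ {T : Over S} (g : T ⟶ G) (x : T ⟶ X), (lift g x ≫ a.act) ≫ φ = x ≫ φ := fun g x => by
    rw [Category.assoc, hcart.w, lift_snd_assoc]
  let sm : ∀ {T : Over Y.left} (g : T ⟶ G') (x : T ⟶ X'), T ⟶ X' := fun {T} g x =>
    up (lift (e T g) (xd x) ≫ a.act) (by rw [hinv]; exact hxφ x)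
  have hxd : ∀ {T : Over Y.left} (g : T ⟶ G') (x : T ⟶ X'), xd (sm g x) = lift (e T g) (xd x) ≫ a.act :=
    fun g x => Over.OverMorphism.ext rfl
  have xinj : ∀ {T : Over Y.left} {x x' : T ⟶ X'}, xd x = xd x' → x = x' := fun {T x x'} h =>
    Over.OverMorphism.ext (show x.left = x'.left from congrArg (fun z => z.left) h)
  have hcomp : ∀ {T T' : Over Y.left} (t : T' ⟶ T) (g : T ⟶ G') (x : T ⟶ X'),
      t ≫ sm g x = sm (t ≫ g) (t ≫ x) := fun {T T'} t g x => by
    apply xinj
    rw [hxd, he, show xd (t ≫ x) = (Over.map Y.hom).map t ≫ xd x from Over.OverMorphism.ext rfl, ← comp_lift,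
      show xd (t ≫ sm g x) = (Over.map Y.hom).map t ≫ xd (sm g x) from Over.OverMorphism.ext rfl, hxd,
      Category.assoc]
  have h1 : ∀ (T : Over Y.left), e T 1 = 1 := fun T => by
    have h := hm T 1 1
    rw [_root_.one_mul] at h
    exact left_eq_mul.1 h
  let act : G' ⊗ X' ⟶ X' := sm (fst G' X') (snd G' X')
  have hact : ∀ {T : Over Y.left} (g : T ⟶ G') (x : T ⟶ X'), lift g x ≫ act = sm g x := fun g x => by
    rw [hcomp, lift_fst, lift_snd]
  let a' : AlgGrp.Action G' X' :=
    { act := act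
      one_act := by
        apply AlgGrp.Action.hom_ext_lift₂
        intro T w x
        rw [lift_whiskerRight_assoc, hact, show w ≫ η[G'] = 1 by rw [Hom.one_def, toUnit_unique (toUnit T) w],
          leftUnitor_hom, lift_snd]
        apply xinj
        rw [hxd, h1, GrpAct.one_smul']
      mul_act := by
        apply AlgGrp.Action.hom_ext_lift₃
        intro T g g' x
        rw [lift_whiskerRight_assoc, ← Hom.mul_def, hact, lift_lift_associator_hom_assoc, lift_whiskerLeft_assoc,
          hact, hact]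
        apply xinj
        rw [hxd, hxd, hxd, hm, GrpAct.mul_smul] }
  refine ⟨a', (Groth.Agent.Torsor.isPseudoTorsor_iff a').mpr fun T x y => ?_⟩
  have hxy : xd y ≫ φ = xd x ≫ φ := Over.OverMorphism.ext ((hxφ y).trans (hxφ x).symm)
  obtain ⟨l, hl1, hl2⟩ := hcart.exists_lift (xd y) (xd x) hxy
  have hle : lift (l ≫ fst G X) (xd x) = l := by rw [← hl2, lift_comp_fst_snd]
  refine ⟨(e T).symm (l ≫ fst G X), ?_, fun g hg => ?_⟩
  · show lift _ x ≫ act = y
    rw [hact]
    apply xinj
    rw [hxd, Equiv.apply_symm_apply, hle, hl1]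
  · change lift g x ≫ act = y at hg
    rw [hact] at hg
    have h := congrArg (fun z => xd z) hg
    beta_reduce at h
    rw [hxd] at h
    have : lift (e T g) (xd x) = l := hcart.hom_ext (h.trans hl1.symm) (by rw [lift_snd, hl2])
    rw [Equiv.eq_symm_apply, ← this, lift_fst]

variable {k : Type u} [Field k]

/-- **The additive group is special.** -/
theorem isSpecial_Ga : IsSpecial (Red.Ga (Spec (CommRingCat.of k))) := by
  intro X Y b φ hcart hloc
  haveI : IsAffine (Red.Ga (Spec (CommRingCat.of k))).left := by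
    haveI : IsAffineHom Red.GaZ.{u}.hom := by
      show IsAffineHom (Spec.map _)
      infer_instance
    haveI : IsAffineHom (Red.Ga (Spec (CommRingCat.of k))).hom :=
      MorphismProperty.pullback_snd (P := @IsAffineHom) _ _ ‹_›
    exact isAffine_of_isAffineHom (Red.Ga (Spec (CommRingCat.of k))).hom
  obtain ⟨h1, h2, h3⟩ := TorsorMap.props b φ hcart hloc
  let e : ∀ T : Over Y.left, (T ⟶ Red.Ga Y.left) ≃ (dn T ⟶ Red.Ga (Spec (CommRingCat.of k))) := fun T =>
    { toFun := fun g => BGaNotS.gaPt (Red.gaFn g : Γ(T.left, ⊤))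
      invFun := fun g => BGaNotS.gaPt (Red.gaFn g : Γ((dn T).left, ⊤))
      left_inv := fun g => BGaNotS.gaPt_ext (by
        rw [BGaNotS.gaFn_gaPt]
        exact BGaNotS.gaFn_gaPt (W := dn T) _)
      right_inv := fun g => BGaNotS.gaPt_ext (by
        rw [BGaNotS.gaFn_gaPt]
        exact BGaNotS.gaFn_gaPt (W := T) _) }
  have hfn : ∀ (T : Over Y.left) (g : T ⟶ Red.Ga Y.left), Red.gaFn (e T g) = Red.gaFn g := fun T g =>
    BGaNotS.gaFn_gaPt (W := dn T) _
  obtain ⟨a', ha'⟩ := exists_relTorsor (Red.Ga Y.left) b φ hcart e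
    (fun {T T'} t g => BGaNotS.gaPt_ext (by
      rw [hfn, BGaNotS.gaFn_comp, BGaNotS.gaFn_comp, hfn]; rfl))
    (fun T g g' => BGaNotS.gaPt_ext (by
      rw [hfn, BGaNotS.gaFn_mul, BGaNotS.gaFn_mul, hfn, hfn]))
  haveI : IsAffineHom (Over.mk φ.left : Over Y.left).hom := h1
  haveI : Flat (Over.mk φ.left : Over Y.left).hom := h2
  haveI : Surjective (Over.mk φ.left : Over Y.left).hom := h3
  choose D j hj hy x hx using GaTorsorZar.exists_section a' ha'
  refine ⟨Presieve.ofArrows D j, ⟨?_, ?_⟩, ?_⟩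
  · exact (Presieve.mem_comap_jointlySurjectivePrecoverage_iff Scheme.forget).2 fun s => ⟨_, _, ⟨s⟩, hy s⟩
  · rintro _ _ ⟨i⟩
    exact hj i
  · rintro _ _ ⟨i⟩
    exact ⟨x i, hx i⟩

/-- **The multiplicative group is special.** -/
theorem isSpecial_Gm : IsSpecial (Red.Gm (Spec (CommRingCat.of k))) := by
  intro X Y b φ hcart hloc
  haveI : IsAffine (Red.Gm (Spec (CommRingCat.of k))).left := by
    haveI := MTBridge.isAffineHom_DS (Spec (CommRingCat.of k)) ℤ
    exact isAffine_of_isAffineHom (Red.Gm (Spec (CommRingCat.of k))).hom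
  obtain ⟨h1, h2, h3⟩ := TorsorMap.props b φ hcart hloc
  have hu : ∀ {S₀ : Scheme.{u}} {T : Over S₀} (g : T ⟶ Red.Gm S₀), IsUnit (GmTorsorZar.gcoord g) := fun g =>
    (Group.isUnit (Multiplicative.ofAdd (1 : ℤ))).map (HomDiag.ch g)
  choose f hf using fun (T : Over Y.left) (g : T ⟶ Red.Gm Y.left) =>
    GmTorsorZar.exists_gcoord (T := dn T) (S := Spec (CommRingCat.of k)) ((hu g).unit : Γ(T.left, ⊤)ˣ)
  choose f' hf' using fun (T : Over Y.left) (g : dn T ⟶ Red.Gm (Spec (CommRingCat.of k))) =>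
    GmTorsorZar.exists_gcoord (T := T) (S := Y.left) ((hu g).unit : Γ((dn T).left, ⊤)ˣ)
  let e : ∀ T : Over Y.left, (T ⟶ Red.Gm Y.left) ≃ (dn T ⟶ Red.Gm (Spec (CommRingCat.of k))) := fun T =>
    { toFun := f T
      invFun := f' T
      left_inv := fun g => GmTorsorZar.gcoord_ext (by rw [hf', IsUnit.unit_spec]; exact hf T g)
      right_inv := fun g => GmTorsorZar.gcoord_ext (by rw [hf, IsUnit.unit_spec]; exact hf' T g) }
  have hfn : ∀ (T : Over Y.left) (g : T ⟶ Red.Gm Y.left), GmTorsorZar.gcoord (e T g) = GmTorsorZar.gcoord g :=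
    fun T g => hf T g
  obtain ⟨a', ha'⟩ := exists_relTorsor (Red.Gm Y.left) b φ hcart e
    (fun {T T'} t g => GmTorsorZar.gcoord_ext (by
      rw [hfn, GmTorsorZar.gcoord_comp, GmTorsorZar.gcoord_comp, hfn]; rfl))
    (fun T g g' => GmTorsorZar.gcoord_ext (by
      rw [hfn, GmTorsorZar.gcoord_mul, GmTorsorZar.gcoord_mul, hfn, hfn]))
  haveI : IsAffineHom (Over.mk φ.left : Over Y.left).hom := h1
  haveI : Flat (Over.mk φ.left : Over Y.left).hom := h2
  haveI : Surjective (Over.mk φ.left : Over Y.left).hom := h3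
  choose D j hj hy x hx using GmTorsorZar.exists_local_section a' ha'
  refine ⟨Presieve.ofArrows D j, ⟨?_, ?_⟩, ?_⟩
  · exact (Presieve.mem_comap_jointlySurjectivePrecoverage_iff Scheme.forget).2 fun s => ⟨_, _, ⟨s⟩, hy s⟩
  · rintro _ _ ⟨i⟩
    exact hj i
  · rintro _ _ ⟨i⟩
    exact ⟨x i, hx i⟩

end Groth.Agent.SolvSpecial
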